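/- Functorial injective embeddings in Grothendieck abelian categories. -/
import Mathlib.CategoryTheory.Abelian.GrothendieckCategory.EnoughInjectives

set_option autoImplicit false

open CategoryTheory CategoryTheory.Limits MorphismProperty ZeroObject

universe w v u

namespace Groth.Agent.InjEmb.Functorial

theorem exists_functorial {C : Type u} [Category.{v} C] [Abelian C]
    [IsGrothendieckAbelian.{w} C] :
    ∃ (J : C ⥤ C) (j : 𝟭 C ⟶ J), ∀ X, Injective (J.obj X) ∧ Mono (j.app X) := by
  let data := functorialFactorizationData (monomorphisms C) (monomorphisms C).rlp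
  let S : C ⥤ Arrow C :=
    { obj := fun X => Arrow.mk (0 : X ⟶ (0 : C))
      map := fun {X Y} f => Arrow.homMk f (𝟙 _) ((isZero_zero C).eq_of_tgt _ _) }
  refine ⟨S ⋙ data.Z,
    { app := fun X => data.i.app (S.obj X)
      naturality := fun X Y f => data.i.naturality (S.map f) }, fun X => ⟨?_, data.hi _⟩⟩
  change Injective (data.Z.obj (S.obj X))
  have h : (monomorphisms C).rlp (data.p.app (S.obj X)) := data.hp (S.obj X)
  have hp : data.p.app (S.obj X) = (0 : data.Z.obj (S.obj X) ⟶ (0 : C)) :=
    (isZero_zero C).eq_of_tgt _ _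
  rw [hp] at h
  exact injective_iff_rlp_monomorphisms_zero _ |>.2 h

end Groth.Agent.InjEmb.Functorial
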